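import Groth.Agent.RadPt.K284.Radicial
import Groth.Agent.Fdesc.GenTop
import Mathlib.AlgebraicGeometry.Morphisms.Flat
import Mathlib.AlgebraicGeometry.Morphisms.UniversallyOpen

/-!
# Flat base change of birational morphisms (in the sense of maximal points)
-/

set_option autoImplicit false
universe u

open CategoryTheory CategoryTheory.Limits AlgebraicGeometry
open Groth.Agent.Fdesc.GenTop

namespace K284.Birational

open K284.Radicial

/-- one-point fibre with trivial residue field extension -/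
def TrivAt {X Y : Scheme.{u}} (f : X ⟶ Y) (y : Y) : Prop :=
  (∀ x x' : X, f x = y → f x' = y → x = x') ∧
    ∀ x : X, f x = y → Function.Bijective (f.residueFieldMap x).hom

theorem TrivAt.isRadicialAt {X Y : Scheme.{u}} {f : X ⟶ Y} {y : Y} (h : TrivAt f y) :
    RadPt.IsRadicialAt f y :=
  ⟨h.1, fun x hx => isPurelyInseparable_of_bijective (isField Y _) (isField X _) _ (h.2 x hx)⟩

/-- a point with trivial residue field extension gives a section over the residue field -/
theorem exists_section {X Y : Scheme.{u}} (f : X ⟶ Y) (y : Y) (x : X) (hx : f x = y)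
    (hb : Function.Bijective (f.residueFieldMap x).hom) :
    ∃ τ : Spec (Y.residueField y) ⟶ X, τ ≫ f = Y.fromSpecResidueField y := by
  subst hx
  have : IsIso (f.residueFieldMap x) := by
    rw [ConcreteCategory.isIso_iff_bijective]
    exact hb
  refine ⟨inv (Spec.map (f.residueFieldMap x)) ≫ X.fromSpecResidueField x, ?_⟩
  rw [Category.assoc, ← Scheme.Hom.SpecMap_residueFieldMap_fromSpecResidueField,
    IsIso.inv_hom_id_assoc]

section

variable {X Y X' Y' : Scheme.{u}} {f : X ⟶ Y} {g : Y' ⟶ Y} {f' : X' ⟶ Y'} {g' : X' ⟶ X}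

/-- a partial section of the base change over the fibre -/
theorem exists_partial_section (sq : IsPullback g' f' f g) (y : Y) (x : X) (hx : f x = y)
    (hb : Function.Bijective (f.residueFieldMap x).hom) :
    ∃ σ : g.fiber y ⟶ X', σ ≫ f' = g.fiberι y := by
  obtain ⟨τ, hτ⟩ := exists_section f y x hx hb
  exact ⟨sq.lift (g.fiberToSpecResidueField y ≫ τ) (g.fiberι y) (by
    rw [Category.assoc, hτ, g.fiber_fac]), sq.lift_snd _ _ _⟩

theorem exists_fiberι (g : Y' ⟶ Y) (y' : Y') (y : Y) (h : g y' = y) :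
    ∃ z, g.fiberι y z = y' := by
  have : y' ∈ Set.range (g.fiberι y) := by
    rw [Scheme.Hom.range_fiberι]; exact h
  exact this

theorem trivAt_of_isPullback (sq : IsPullback g' f' f g) (y' : Y') (h : TrivAt f (g y')) :
    TrivAt f' y' := by
  have h1 : RadPt.IsRadicialAt f' y' :=
    (isRadicialAt_iff_of_isPullback sq y').mp h.isRadicialAt
  refine ⟨h1.1, fun x' hx' => ?_⟩
  have hx : f (g' x') = g y' := by
    rw [← Scheme.Hom.comp_apply, sq.w, Scheme.Hom.comp_apply, hx']
  obtain ⟨σ, hσ⟩ := exists_partial_section sq (g y') (g' x') hx (h.2 _ hx)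
  obtain ⟨z, hz⟩ := exists_fiberι g y' (g y') rfl
  have h2 : f' (σ z) = y' := by rw [← Scheme.Hom.comp_apply, hσ, hz]
  have h3 : σ z = x' := h1.1 _ _ h2 hx'
  subst h3
  have h4 : Function.Bijective ((σ ≫ f').residueFieldMap z).hom := by
    have h5 : IsPreimmersion (σ ≫ f') := by rw [hσ]; infer_instance
    exact bijective_residueFieldMap _ z
  rw [Scheme.residueFieldMap_comp] at h4
  refine ⟨RingHom.injective _, fun b => ?_⟩
  obtain ⟨a, ha⟩ := h4.2 ((σ.residueFieldMap z).hom b)
  exact ⟨a, RingHom.injective (σ.residueFieldMap z).hom ha⟩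

theorem exists_specializes (sq : IsPullback g' f' f g) (x' : X') (h : TrivAt f (g (f' x')))
    (y'' : Y') (hy : y'' ⤳ f' x') (hg : g y'' = g (f' x')) : ∃ x'', x'' ⤳ x' ∧ f' x'' = y'' := by
  have h1 : RadPt.IsRadicialAt f' (f' x') :=
    (isRadicialAt_iff_of_isPullback sq _).mp h.isRadicialAt
  have hx : f (g' x') = g (f' x') := by
    rw [← Scheme.Hom.comp_apply, sq.w, Scheme.Hom.comp_apply]
  obtain ⟨σ, hσ⟩ := exists_partial_section sq _ (g' x') hx (h.2 _ hx)
  obtain ⟨z, hz⟩ := exists_fiberι g (f' x') _ rfl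
  obtain ⟨z'', hz''⟩ := exists_fiberι g y'' _ hg
  have h2 : z'' ⤳ z := by
    rw [← (g.fiberι _).isEmbedding.specializes_iff, hz, hz'']
    exact hy
  have h3 : σ z = x' := h1.1 _ _ (by rw [← Scheme.Hom.comp_apply, hσ, hz]) rfl
  exact ⟨σ z'', (h2.map σ.continuous).trans (specializes_of_eq h3), by rw [← Scheme.Hom.comp_apply, hσ, hz'']⟩

theorem isBirational_of_isPullback [Flat g] (sq : IsPullback g' f' f g)
    (hf : RadPt.IsBirational f) : RadPt.IsBirational f' := by
  obtain ⟨hbij, htriv⟩ := hf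
  have htriv' : ∀ y ∈ genericPoints Y, TrivAt f y := htriv
  have hg' : Flat g' := MorphismProperty.of_isPullback sq.flip ‹_›
  have hgY : ∀ y' ∈ genericPoints Y', g y' ∈ genericPoints Y := fun y' hy' =>
    map_mem_genericPoints (Flat.generalizingMap g) hy'
  have htr : ∀ y' ∈ genericPoints Y', TrivAt f' y' := fun y' hy' =>
    trivAt_of_isPullback sq y' (htriv' _ (hgY y' hy'))
  have hmaps : ∀ x' ∈ genericPoints X', f' x' ∈ genericPoints Y' := by
    intro x' hx'
    rw [mem_genericPoints_iff]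
    intro y'' hy''
    have h1 : g' x' ∈ genericPoints X := map_mem_genericPoints (Flat.generalizingMap g') hx'
    have h2 : f (g' x') ∈ genericPoints Y := hbij.1 h1
    have h3 : f (g' x') = g (f' x') := by
      rw [← Scheme.Hom.comp_apply, sq.w, Scheme.Hom.comp_apply]
    rw [h3] at h2
    have h4 : g y'' = g (f' x') := (mem_genericPoints_iff.mp h2) _ (hy''.map g.continuous)
    obtain ⟨x'', hx'', rfl⟩ := exists_specializes sq x' (htriv' _ h2) y'' hy'' h4
    rw [(mem_genericPoints_iff.mp hx') _ hx'']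
  refine ⟨⟨hmaps, ?_, ?_⟩, htr⟩
  · intro x₁ hx₁ x₂ hx₂ h
    exact (htr _ (hmaps x₁ hx₁)).1 _ _ rfl h.symm
  · intro y' hy'
    have h1 := hgY y' hy'
    obtain ⟨x, hx, hxy⟩ := hbij.2.2 h1
    obtain ⟨σ, hσ⟩ := exists_partial_section sq _ x hxy ((htriv' _ h1).2 x hxy)
    obtain ⟨z, hz⟩ := exists_fiberι g y' _ rfl
    have h2 : f' (σ z) = y' := by rw [← Scheme.Hom.comp_apply, hσ, hz]
    refine ⟨σ z, mem_genericPoints_of_map f'.continuous (h2.symm ▸ hy') ?_, h2⟩
    intro x' _ hx'
    exact (htr y' hy').1 _ _ (hx'.trans h2) h2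

end

end K284.Birational
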