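import Groth.Prelude.Def_EGA4Misc
import Mathlib.AlgebraicGeometry.Fiber
import Mathlib.AlgebraicGeometry.Morphisms.UniversallyInjective
import Mathlib.AlgebraicGeometry.Morphisms.Preimmersion
import Mathlib.AlgebraicGeometry.Morphisms.FlatDescent

/-!
# Morphisms radicial at a point
-/

set_option autoImplicit false
universe u

open CategoryTheory CategoryTheory.Limits AlgebraicGeometry

namespace K284.Radicial

theorem isPurelyInseparable_comp {F E K : CommRingCat.{u}} (hF : IsField F) (hE : IsField E)
    (hK : IsField K) (f : F ⟶ E) (g : E ⟶ K) :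
    (f ≫ g).hom.IsPurelyInseparable ↔
      f.hom.IsPurelyInseparable ∧ g.hom.IsPurelyInseparable := by
  letI := hF.toField
  letI := hE.toField
  letI := hK.toField
  letI := f.hom.toAlgebra
  letI := g.hom.toAlgebra
  letI := (f ≫ g).hom.toAlgebra
  haveI : IsScalarTower F E K := IsScalarTower.of_algebraMap_eq' rfl
  constructor
  · intro h
    haveI : IsPurelyInseparable F K := h
    exact ⟨(IsPurelyInseparable.tower_bot F E K : IsPurelyInseparable F E),
      (IsPurelyInseparable.tower_top F E K : IsPurelyInseparable E K)⟩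
  · rintro ⟨h1, h2⟩
    haveI : IsPurelyInseparable F E := h1
    haveI : IsPurelyInseparable E K := h2
    exact (IsPurelyInseparable.trans F E K : IsPurelyInseparable F K)

theorem isPurelyInseparable_of_bijective {F E : CommRingCat.{u}} (hF : IsField F) (hE : IsField E)
    (f : F ⟶ E) (hf : Function.Bijective f.hom) : f.hom.IsPurelyInseparable := by
  letI := hF.toField
  letI := hE.toField
  letI := f.hom.toAlgebra
  have hi : Algebra.IsIntegral F E := Algebra.isIntegral_of_surjective hf.2
  have : IsPurelyInseparable F E := ⟨hi, fun x _ => hf.2 x⟩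
  exact this

theorem isField (X : Scheme.{u}) (x : X) : IsField (X.residueField x) :=
  Field.toIsField (X.residueField x)

theorem radicial_comp {X Y Z : Scheme.{u}} (f : X ⟶ Y) (g : Y ⟶ Z) (x : X) :
    ((f ≫ g).residueFieldMap x).hom.IsPurelyInseparable ↔
      (g.residueFieldMap (f x)).hom.IsPurelyInseparable ∧
        (f.residueFieldMap x).hom.IsPurelyInseparable := by
  rw [Scheme.residueFieldMap_comp]
  exact isPurelyInseparable_comp (isField Z _) (isField Y _) (isField X _) _ _

theorem isRadicialAt_comp {X Y Z : Scheme.{u}} (f : X ⟶ Y) (g : Y ⟶ Z) (y : Y)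
    (hf : RadPt.IsRadicialAt f y) (hg : RadPt.IsRadicialAt g (g y)) :
    RadPt.IsRadicialAt (f ≫ g) (g y) := by
  have h1 : ∀ x : X, (f ≫ g) x = g y → f x = y := fun x hx => hg.1 _ _ hx rfl
  exact ⟨fun x x' hx hx' => hf.1 x x' (h1 x hx) (h1 x' hx'), fun x hx =>
    (radicial_comp f g x).mpr ⟨hg.2 _ hx, hf.2 _ (h1 x hx)⟩⟩

theorem isRadicialAt_of_comp {X Y Z : Scheme.{u}} (f : X ⟶ Y) (g : Y ⟶ Z) (y : Y) [Surjective f]
    (h : RadPt.IsRadicialAt (f ≫ g) (g y)) :
    RadPt.IsRadicialAt f y ∧ RadPt.IsRadicialAt g (g y) := by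
  have h1 : ∀ x : X, f x = y → (f ≫ g) x = g y := fun x hx => by
    rw [Scheme.Hom.comp_apply, hx]
  refine ⟨⟨fun x x' hx hx' => h.1 x x' (h1 x hx) (h1 x' hx'), fun x hx =>
    ((radicial_comp f g x).mp (h.2 x (h1 x hx))).2⟩, ?_, ?_⟩
  · intro z z' hz hz'
    obtain ⟨x, rfl⟩ := f.surjective z
    obtain ⟨x', rfl⟩ := f.surjective z'
    rw [h.1 x x' hz hz']
  · intro z hz
    obtain ⟨x, rfl⟩ := f.surjective z
    exact ((radicial_comp f g x).mp (h.2 x hz)).1

theorem universallyInjective_iff_forall_isRadicialAt {X Y : Scheme.{u}} (f : X ⟶ Y) :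
    UniversallyInjective f ↔ ∀ y : Y, RadPt.IsRadicialAt f y := by
  refine ((tfae_universallyInjective f).out 0 2).trans ?_
  constructor
  · rintro ⟨h1, h2⟩ y
    exact ⟨fun x x' hx hx' => h1 (hx.trans hx'.symm), fun x _ => h2 x⟩
  · intro h
    exact ⟨fun x x' hxx' => (h (f x)).1 x x' rfl hxx'.symm, fun x => (h (f x)).2 x rfl⟩

/-- residue field map of a preimmersion is bijective -/
theorem bijective_residueFieldMap {X Y : Scheme.{u}} (f : X ⟶ Y) [IsPreimmersion f] (x : X) :
    Function.Bijective (f.residueFieldMap x).hom := by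
  refine ⟨RingHom.injective _, fun z => ?_⟩
  obtain ⟨z, rfl⟩ := X.residue_surjective x z
  obtain ⟨w, rfl⟩ := f.stalkMap_surjective x z
  refine ⟨Y.residue (f x) w, ?_⟩
  exact congrArg (fun φ : Y.presheaf.stalk (f x) ⟶ X.residueField x => φ.hom w)
    (Scheme.residue_residueFieldMap f x)

theorem radicial_congr {X Y : Scheme.{u}} {f g : X ⟶ Y} (e : f = g) (x : X) :
    (f.residueFieldMap x).hom.IsPurelyInseparable ↔
      (g.residueFieldMap x).hom.IsPurelyInseparable := by
  subst e; rfl

theorem radicial_preimmersion {X Y : Scheme.{u}} (f : X ⟶ Y) [IsPreimmersion f] (x : X) :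
    (f.residueFieldMap x).hom.IsPurelyInseparable :=
  isPurelyInseparable_of_bijective (isField Y _) (isField X _) _ (bijective_residueFieldMap f x)

/-- Radicial at `y` means that the fibre at `y` is universally injective over the residue field. -/
theorem isRadicialAt_iff_fiber {X Y : Scheme.{u}} (f : X ⟶ Y) (y : Y) :
    RadPt.IsRadicialAt f y ↔ UniversallyInjective (f.fiberToSpecResidueField y) := by
  refine Iff.trans ?_ ((tfae_universallyInjective (f.fiberToSpecResidueField y)).out 2 0)
  have hι : ∀ z, f (f.fiberι y z) = y := fun z => by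
    have : f.fiberι y z ∈ Set.range (f.fiberι y) := ⟨z, rfl⟩
    rw [Scheme.Hom.range_fiberι] at this
    exact this
  have hsurj : ∀ x : X, f x = y → ∃ z, f.fiberι y z = x := fun x hx => by
    have : x ∈ Set.range (f.fiberι y) := by
      rw [Scheme.Hom.range_fiberι]
      exact hx
    exact this
  have hpi : ∀ z, (f.residueFieldMap (f.fiberι y z)).hom.IsPurelyInseparable ↔
      ((f.fiberToSpecResidueField y).residueFieldMap z).hom.IsPurelyInseparable := by
    intro z
    have h1 := radicial_comp (f.fiberι y) f z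
    have h2 := radicial_comp (f.fiberToSpecResidueField y) (Y.fromSpecResidueField y) z
    rw [radicial_congr (f.fiber_fac y) z] at h1
    have h3 := radicial_preimmersion (f.fiberι y) z
    have h4 := radicial_preimmersion (Y.fromSpecResidueField y)
      (f.fiberToSpecResidueField y z)
    tauto
  constructor
  · rintro ⟨h1, h2⟩
    refine ⟨fun z z' _ => (f.fiberι y).isEmbedding.injective (h1 _ _ (hι z) (hι z')), fun z => ?_⟩
    exact (hpi z).mp (h2 _ (hι z))
  · rintro ⟨h1, h2⟩
    refine ⟨fun x x' hx hx' => ?_, fun x hx => ?_⟩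
    · obtain ⟨z, rfl⟩ := hsurj x hx
      obtain ⟨z', rfl⟩ := hsurj x' hx'
      have h3 : f.fiberToSpecResidueField y z = f.fiberToSpecResidueField y z' := by
        rw [Scheme.Hom.fiberToSpecResidueField_apply, Scheme.Hom.fiberToSpecResidueField_apply]
      rw [h1 h3]
    · obtain ⟨z, rfl⟩ := hsurj x hx
      exact (hpi z).mpr (h2 z)

instance : MorphismProperty.DescendsAlong @UniversallyInjective @Surjective := by
  rw [universallyInjective_eq_diagonal]
  infer_instance

theorem isRadicialAt_iff_of_isPullback {X Y X' Y' : Scheme.{u}} {f : X ⟶ Y} {h : Y' ⟶ Y}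
    {f' : X' ⟶ Y'} {h' : X' ⟶ X} (sq : IsPullback h' f' f h) (y' : Y') :
    RadPt.IsRadicialAt f (h y') ↔ RadPt.IsRadicialAt f' y' := by
  rw [isRadicialAt_iff_fiber, isRadicialAt_iff_fiber]
  have hp := isPullback_fiberToSpecResidueField_of_isPullback sq y'
  constructor
  · intro H
    exact MorphismProperty.of_isPullback hp H
  · intro H
    have hs : Surjective (Spec.map (h.residueFieldMap y')) :=
      ⟨fun x => ⟨IsLocalRing.closedPoint _, Subsingleton.elim (α := PrimeSpectrum _) _ _⟩⟩
    exact MorphismProperty.of_isPullback_of_descendsAlong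
      (P := @UniversallyInjective) (Q := @Surjective) hp.flip hs H

end K284.Radicial
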