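import Groth.Agent.Ega4C.GeomUnibranch

/-!
# Geometrically unibranch local rings under integral birational ring maps
-/

set_option autoImplicit false
universe u

open IsLocalRing Groth.Agent.Ega4C.UniqHom Groth.Agent.Ega4C.GeomUnibranch

namespace K284.UnibAlg

variable {A B : Type u} [CommRing A] [CommRing B]

/-- The data of a birational map modulo nilradicals. -/
structure Bir (f : A →+* B) : Prop where
  domA : IsDomain (CAlg2.red A)
  domB : IsDomain (CAlg2.red B)
  comap : (nilradical B).comap f = nilradical A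
  bir : ∀ b : B, ∃ s r : A, s ∉ nilradical A ∧ f s * b - f r ∈ nilradical B

theorem toNormRed_eq_zero_iff (x : B) : toNormRed B x = 0 ↔ x ∈ nilradical B := by
  rw [← RingHom.mem_ker, ker_toNormRed]

/-- `normRed A ≅ normRed B` over `A → B`. -/
theorem exists_normRed_equiv (f : A →+* B) (hf : f.IsIntegral) (h : Bir f) :
    ∃ J : CAlg2.normRed B →+* CAlg2.normRed A, Function.Bijective J ∧
      J.comp ((toNormRed B).comp f) = toNormRed A := by
  have := h.domA
  have := h.domB
  have : IsDomain (CAlg2.normRed B) := isDomain_normRed B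
  have hint : ((toNormRed B).comp f).IsIntegral := hf.trans _ _ (toNormRed_isIntegral B)
  have hker : RingHom.ker ((toNormRed B).comp f) ≤ nilradical A := by
    rw [← RingHom.comap_ker, ker_toNormRed, h.comap]
  have hz : ∀ s : A, s ∉ nilradical A → toNormRed B (f s) ≠ 0 := by
    intro s hs h0
    exact hs (hker h0)
  have hb : ∀ b : B, ∃ s r : A, s ∉ nilradical A ∧
      toNormRed B (f s) * toNormRed B b = toNormRed B (f r) := by
    intro b
    obtain ⟨s, r, hs, hr⟩ := h.bir b
    refine ⟨s, r, hs, ?_⟩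
    rw [← toNormRed_eq_zero_iff, map_sub, sub_eq_zero, map_mul] at hr
    exact hr
  obtain ⟨-, J, hJ, hJinj, hJsurj⟩ := exists_model_map ((toNormRed B).comp f) hint hker (by
    intro c
    obtain ⟨s, r, hs, hc⟩ := exists_toNormRed_mul_eq B c
    have hs0 : toNormRed B s ≠ 0 := nonZeroDivisors.ne_zero hs
    obtain ⟨a, a', ha, haa⟩ := hb s
    obtain ⟨b, b', hb0, hbb⟩ := hb r
    refine ⟨a' * b, a * b', ?_, ?_⟩
    · rw [RingHom.comp_apply, map_mul, map_mul, ← haa]
      exact mul_ne_zero (mul_ne_zero (hz a ha) hs0) (hz b hb0)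
    · simp only [RingHom.comp_apply, map_mul]
      rw [← haa, ← hbb, ← hc]
      ring)
  exact ⟨J, ⟨hJinj, hJsurj (integralClosure.isIntegrallyClosedOfFiniteExtension
    (FractionRing (CAlg2.red B)))⟩, hJ⟩

theorem uniqHom_iff_of_equiv {C D : Type u} [CommRing C] [CommRing D] (f : A →+* C)
    (J : C →+* D) (hJ : Function.Bijective J) (m : Ideal A) :
    UniqHom f m ↔ UniqHom (J.comp f) m := by
  constructor
  · intro h Ω _ _ φ ψ hφψ hk
    have h1 : φ.comp J = ψ.comp J := h Ω _ _ (by rw [RingHom.comp_assoc, hφψ]; rfl)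
      (by rw [RingHom.comp_assoc]; exact hk)
    ext x
    obtain ⟨y, rfl⟩ := hJ.2 x
    exact congr($h1 y)
  · intro h Ω _ _ φ ψ hφψ hk
    let e : C ≃+* D := RingEquiv.ofBijective J hJ
    have he : (e.symm : D →+* C).comp (J.comp f) = f := by
      ext x
      exact e.symm_apply_apply (f x)
    have h1 : φ.comp (e.symm : D →+* C) = ψ.comp (e.symm : D →+* C) := h Ω _ _
      (by rw [RingHom.comp_assoc, RingHom.comp_assoc, he, hφψ])
      (by rw [RingHom.comp_assoc, he]; exact hk)
    ext x
    have := congr($h1 (e x))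
    simpa using this

/-- Main algebraic statement. -/
theorem isGeomUnibranch_iff_of_bir [IsLocalRing A] (f : A →+* B) (hf : f.IsIntegral) (h : Bir f) :
    CAlg2.IsGeomUnibranch A ↔ (UniqHom f (maximalIdeal A) ∧
      ∃ _ : IsLocalRing B, CAlg2.IsGeomUnibranch B) := by
  have := h.domA
  have := h.domB
  obtain ⟨J, hJ, hJc⟩ := exists_normRed_equiv f hf h
  have h1 : CAlg2.IsGeomUnibranch A ↔ UniqHom ((toNormRed B).comp f) (maximalIdeal A) := by
    rw [isGeomUnibranch_iff, uniqHom_iff_of_equiv _ J hJ, hJc]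
    exact ⟨fun h => h.2, fun h' => ⟨h.domA, h'⟩⟩
  rw [h1]
  constructor
  · intro hu
    have hu' : UniqHom f (maximalIdeal A) := by
      intro Ω _ _ φ ψ hφψ hk
      have hext : ∀ φ : B →+* Ω, ∃ φ' : CAlg2.normRed B →+* Ω, φ'.comp (toNormRed B) = φ := by
        intro φ
        refine exists_extension (toNormRed B) (toNormRed_isIntegral B) φ ?_
        rw [ker_toNormRed]
        have := RingHom.ker_isPrime φ
        exact nilradical_le_prime _
      obtain ⟨φ', rfl⟩ := hext φ
      obtain ⟨ψ', rfl⟩ := hext ψ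
      rw [hu Ω φ' ψ' (by rw [← RingHom.comp_assoc, hφψ, RingHom.comp_assoc])
        (by rw [← RingHom.comp_assoc]; exact hk)]
    have : Nontrivial B := (Ideal.Quotient.mk (nilradical B)).domain_nontrivial
    have hloc : IsLocalRing B := UniqHom.isLocalRing hf hu'
    refine ⟨hu', hloc, (isGeomUnibranch_iff B).mpr ⟨h.domB, ?_⟩⟩
    intro Ω _ _ φ ψ hφψ hk
    refine hu Ω φ ψ (by rw [← RingHom.comp_assoc, hφψ, RingHom.comp_assoc]) ?_
    rw [← RingHom.comp_assoc, ← RingHom.comap_ker, hk]
    have : ((maximalIdeal B).comap f).IsMaximal := by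
      algebraize [f]
      exact Ideal.isMaximal_comap_of_isIntegral_of_isMaximal _
    exact IsLocalRing.eq_maximalIdeal this
  · rintro ⟨hu, hloc, hB⟩
    intro Ω _ _ φ ψ hφψ hk
    have h2 : φ.comp (toNormRed B) = ψ.comp (toNormRed B) :=
      hu Ω _ _ (by rw [RingHom.comp_assoc, hφψ, RingHom.comp_assoc])
        (by rw [RingHom.comp_assoc]; exact hk)
    refine ((isGeomUnibranch_iff B).mp hB).2 Ω φ ψ h2 ?_
    have hm : ((RingHom.ker (φ.comp (toNormRed B))).comap f).IsMaximal := by
      rw [RingHom.comap_ker, RingHom.comp_assoc, hk]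
      infer_instance
    have hp := RingHom.ker_isPrime (φ.comp (toNormRed B))
    have : (RingHom.ker (φ.comp (toNormRed B))).IsMaximal := by
      algebraize [f]
      exact Ideal.isMaximal_of_isIntegral_of_isMaximal_comap (R := A) _ hm
    exact IsLocalRing.eq_maximalIdeal this

theorem Bir.of_equiv (e : A ≃+* B) (h : IsDomain (CAlg2.red A)) : Bir (e : A →+* B) := by
  have hc : (nilradical B).comap (e : A →+* B) = nilradical A := by
    ext x
    simp only [Ideal.mem_comap, mem_nilradical, RingHom.coe_coe]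
    exact IsNilpotent.map_iff e.injective
  have hA : (nilradical A).IsPrime := (Ideal.Quotient.isDomain_iff_prime _).mp h
  refine ⟨h, ?_, hc, fun b => ⟨1, e.symm b, ?_, ?_⟩⟩
  · rw [Ideal.Quotient.isDomain_iff_prime]
    have : nilradical B = (nilradical A).comap (e.symm : B →+* A) := by
      ext x
      simp only [Ideal.mem_comap, mem_nilradical, RingHom.coe_coe]
      exact (IsNilpotent.map_iff e.symm.injective).symm
    rw [this]
    exact Ideal.IsPrime.comap _
  · exact (Ideal.ne_top_iff_one _).mp hA.ne_top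
  · simp

/-- Invariance under isomorphisms. -/
theorem isGeomUnibranch_congr [IsLocalRing A] [IsLocalRing B] (e : A ≃+* B)
    (h : CAlg2.IsGeomUnibranch A) : CAlg2.IsGeomUnibranch B := by
  have h1 := Bir.of_equiv e h.1.1
  obtain ⟨-, h3, h4⟩ := (isGeomUnibranch_iff_of_bir (e : A →+* B)
    (RingHom.isIntegral_of_surjective _ e.surjective) h1).mp h
  exact h4

end K284.UnibAlg
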