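import Groth.Agent.RadPt.K284.UnibSch

/-!
# Geometrically unibranch points under integral birational morphisms: main theorem
-/

set_option autoImplicit false
universe u

open CategoryTheory CategoryTheory.Limits AlgebraicGeometry IsLocalRing
open Groth.Agent.Fdesc.GenTop Groth.Agent.Ega4C.UniqHom Groth.Agent.Ega4C.GeomUnibranch

namespace K284.UnibMain

open K284.Radicial K284.Birational K284.UnibAlg K284.UnibSch

theorem flat_fromSpecStalk (Y : Scheme.{u}) (y : Y) : Flat (Y.fromSpecStalk y) := by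
  let U : Y.Opens := (Y.affineCover.f (Y.affineCover.idx y)).opensRange
  have hU : IsAffineOpen U := isAffineOpen_opensRange _
  have hy : y ∈ U := Y.affineCover.covers y
  have e : Y.fromSpecStalk y = Spec.map (Y.presheaf.germ U y hy) ≫ hU.fromSpec := rfl
  rw [e]
  have : Flat (Spec.map (Y.presheaf.germ U y hy)) := by
    rw [Flat.SpecMap_iff]
    letI : Algebra Γ(Y, U) (Y.presheaf.stalk y) := (Y.presheaf.germ U y hy).hom.toAlgebra
    have := hU.isLocalization_stalk ⟨y, hy⟩
    exact IsLocalization.flat (Y.presheaf.stalk y) (hU.primeIdealOf ⟨y, hy⟩).asIdeal.primeCompl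
  infer_instance

/-- The localisation of an integral morphism at a point of the base. -/
theorem exists_model {X Y : Scheme.{u}} (f : X ⟶ Y) [IsIntegralHom f] (y : Y) :
    ∃ (B : CommRingCat.{u}) (φ : Y.presheaf.stalk y ⟶ B) (g' : Spec B ⟶ X),
      φ.hom.IsIntegral ∧ IsPullback g' (Spec.map φ) f (Y.fromSpecStalk y) ∧
      ∀ n, IsIso (g'.stalkMap n) := by
  let j := Y.fromSpecStalk y
  let P := pullback f j
  have hint : IsIntegralHom (pullback.snd f j) := inferInstance
  have haff : IsAffine P := isAffine_of_isAffineHom (pullback.snd f j)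
  let e : Spec Γ(P, ⊤) ≅ P := P.isoSpec.symm
  obtain ⟨φ, hφ⟩ := Spec.map_surjective (e.hom ≫ pullback.snd f j)
  refine ⟨Γ(P, ⊤), φ, e.hom ≫ pullback.fst f j, ?_, ?_, fun n => ?_⟩
  · rw [← IsIntegralHom.SpecMap_iff, hφ]
    infer_instance
  · rw [hφ]
    exact IsPullback.of_iso (IsPullback.of_hasPullback f j) e.symm (Iso.refl _) (Iso.refl _)
      (Iso.refl _) (by simp) (by simp) (by simp) (by simp [j])
  · rw [Scheme.Hom.stalkMap_comp]
    have h1 : IsIso ((pullback.fst f j).stalkMap (e.hom n)) := Groth.Agent.S4366.result f y (e.hom n)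
    have h2 : IsIso (e.hom.stalkMap n) := inferInstance
    exact IsIso.comp_isIso' h1 h2

theorem main {X Y : Scheme.{u}} (f : X ⟶ Y) [IsIntegralHom f] (hf : RadPt.IsBirational f) (y : Y) :
    CAlg2.IsGeomUnibranch (Y.presheaf.stalk y) ↔
      (RadPt.IsRadicialAt f y ∧ ∀ x : X, f x = y → CAlg2.IsGeomUnibranch (X.presheaf.stalk x)) := by
  obtain ⟨B, φ, g', hint, sq, hst⟩ := exists_model f y
  have hflat := flat_fromSpecStalk Y y
  have hbir : RadPt.IsBirational (Spec.map φ) := isBirational_of_isPullback sq hf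
  have hrad : RadPt.IsRadicialAt f y ↔ UniqHom φ.hom (maximalIdeal (Y.presheaf.stalk y)) := by
    rw [← isRadicialAt_iff_uniqHom, ← isRadicialAt_iff_of_isPullback sq,
      Scheme.fromSpecStalk_closedPoint]
  -- points over `y`
  have hpt : ∀ x : X, f x = y → ∃ n : Spec B, g' n = x ∧
      Spec.map φ n = closedPoint (Y.presheaf.stalk y) := by
    intro x hx
    obtain ⟨t, ht1, ht2⟩ := Scheme.Pullback.exists_preimage_pullback (f := f)
      (g := Y.fromSpecStalk y) x (closedPoint (Y.presheaf.stalk y))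
      (by rw [Scheme.fromSpecStalk_closedPoint, hx])
    refine ⟨(sq.isoPullback.inv) t, ?_, ?_⟩
    · rw [← Scheme.Hom.comp_apply, sq.isoPullback_inv_fst, ht1]
    · rw [← Scheme.Hom.comp_apply, sq.isoPullback_inv_snd, ht2]
  have hloc : ∀ (_ : IsLocalRing B) (n : Spec B),
      Spec.map φ n = closedPoint (Y.presheaf.stalk y) →
        Nonempty (X.presheaf.stalk (g' n) ≃+* B) := by
    intro hB n hn
    have hmax : n.asIdeal.IsMaximal := by
      have h1 : (n.asIdeal.comap φ.hom) = maximalIdeal (Y.presheaf.stalk y) :=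
        congrArg PrimeSpectrum.asIdeal hn
      have h2 : (n.asIdeal.comap φ.hom).IsMaximal := by rw [h1]; infer_instance
      have := n.2
      letI := φ.hom.toAlgebra
      have : Algebra.IsIntegral (Y.presheaf.stalk y) B := ⟨hint⟩
      exact Ideal.isMaximal_of_isIntegral_of_isMaximal_comap (R := Y.presheaf.stalk y) _ h2
    have hn' := IsLocalRing.eq_maximalIdeal hmax
    have hu : ∀ z ∈ n.asIdeal.primeCompl, IsUnit z := by
      intro z hz
      by_contra hz'
      apply hz
      rw [hn']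
      exact (IsLocalRing.mem_maximalIdeal z).mpr hz'
    let e₁ : B ≃ₐ[B] Localization.AtPrime n.asIdeal := IsLocalization.atUnits B _ hu
    let e₂ := (Spec.stalkIso B n).commRingCatIsoToRingEquiv
    have := hst n
    let e₃ := (asIso (g'.stalkMap n)).commRingCatIsoToRingEquiv
    exact ⟨e₃.trans (e₂.trans e₁.symm.toRingEquiv)⟩
  constructor
  · intro h
    have hb : Bir φ.hom := bir_of_isBirational φ hbir (Or.inl h.1.1)
    obtain ⟨h1, hB, h2⟩ := (isGeomUnibranch_iff_of_bir φ.hom hint hb).mp h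
    refine ⟨hrad.mpr h1, fun x hx => ?_⟩
    obtain ⟨n, rfl, hn⟩ := hpt x hx
    obtain ⟨e⟩ := hloc hB n hn
    exact isGeomUnibranch_congr e.symm h2
  · rintro ⟨h1, h2⟩
    have hu := hrad.mp h1
    -- the fibre is nonempty
    obtain ⟨x, hx⟩ : ∃ x, f x = y := by
      obtain ⟨η, hη, hηy⟩ := exists_genericPoints_specializes y
      obtain ⟨ξ, -, hξ⟩ := hf.1.2.2 hη
      rw [← hξ] at hηy
      obtain ⟨x, -, hx⟩ := f.isClosedMap.specializingMap hηy
      exact ⟨x, hx⟩
    obtain ⟨n, rfl, hn⟩ := hpt x hx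
    have hnt : Nontrivial B := by
      have := n.2.ne_top
      exact (Ideal.Quotient.mk n.asIdeal).domain_nontrivial
    have hB : IsLocalRing B := UniqHom.isLocalRing hint hu
    obtain ⟨e⟩ := hloc hB n hn
    have h3 : CAlg2.IsGeomUnibranch B := isGeomUnibranch_congr e (h2 _ hx)
    exact (isGeomUnibranch_iff_of_bir φ.hom hint
      (bir_of_isBirational φ hbir (Or.inr h3.1.1))).mpr ⟨hu, hB, h3⟩

theorem main_global {X Y : Scheme.{u}} (f : X ⟶ Y) [IsIntegralHom f] (hf : RadPt.IsBirational f) :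
    (∀ y : Y, CAlg2.IsGeomUnibranch (Y.presheaf.stalk y)) ↔
      ((∀ x : X, CAlg2.IsGeomUnibranch (X.presheaf.stalk x)) ∧ UniversallyInjective f) := by
  rw [universallyInjective_iff_forall_isRadicialAt]
  constructor
  · intro h
    exact ⟨fun x => ((main f hf (f x)).mp (h _)).2 x rfl, fun y => ((main f hf y).mp (h y)).1⟩
  · rintro ⟨h1, h2⟩ y
    exact (main f hf y).mpr ⟨h2 y, fun x _ => h1 x⟩

end K284.UnibMain
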