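import Groth.Agent.RadPt.K284.UnibAlg
import Groth.Agent.RadPt.K284.Birational
import Groth.Agent.Grpsch.EtLoc
import Groth.Agent.S4366
import Mathlib.AlgebraicGeometry.Morphisms.Integral

/-!
# Geometrically unibranch points under integral birational morphisms
-/

set_option autoImplicit false
universe u

open CategoryTheory CategoryTheory.Limits AlgebraicGeometry IsLocalRing
open Groth.Agent.Fdesc.GenTop Groth.Agent.Ega4C.UniqHom Groth.Agent.Ega4C.GeomUnibranch

namespace K284.UnibSch

open K284.Radicial K284.Birational K284.UnibAlg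

/-- Radicial at a point, in terms of geometric points. -/
theorem isRadicialAt_iff_geom {X Y : Scheme.{u}} (f : X ⟶ Y) (y : Y) :
    RadPt.IsRadicialAt f y ↔ ∀ (Ω : Type u) [Field Ω] [IsAlgClosed Ω]
      (g₁ g₂ : Spec (CommRingCat.of Ω) ⟶ X), g₁ ≫ f = g₂ ≫ f →
        (g₁ ≫ f) (closedPoint Ω) = y → g₁ = g₂ := by
  rw [isRadicialAt_iff_fiber]
  constructor
  · intro H Ω _ _ g₁ g₂ h12 hy
    subst hy
    let r : Spec (CommRingCat.of Ω) ⟶ Spec (Y.residueField ((g₁ ≫ f) (closedPoint Ω))) :=
      Spec.map (Y.descResidueField (Scheme.stalkClosedPointTo (g₁ ≫ f)))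
    have hr : r ≫ Y.fromSpecResidueField _ = g₁ ≫ f :=
      Scheme.descResidueField_stalkClosedPointTo_fromSpecResidueField Ω Y (g₁ ≫ f)
    let l₁ : Spec (CommRingCat.of Ω) ⟶ f.fiber ((g₁ ≫ f) (closedPoint Ω)) :=
      pullback.lift g₁ r hr.symm
    let l₂ : Spec (CommRingCat.of Ω) ⟶ f.fiber ((g₁ ≫ f) (closedPoint Ω)) :=
      pullback.lift g₂ r (h12.symm.trans hr.symm)
    have H' := ((tfae_universallyInjective
      (f.fiberToSpecResidueField ((g₁ ≫ f) (closedPoint Ω)))).out 0 1).mp H
    have h : l₁ = l₂ := H' Ω ((pullback.lift_snd _ _ _).trans (pullback.lift_snd _ _ _).symm)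
    have h1 : l₁ ≫ f.fiberι _ = g₁ := pullback.lift_fst _ _ _
    have h2 : l₂ ≫ f.fiberι _ = g₂ := pullback.lift_fst _ _ _
    rw [← h1, ← h2, h]
  · intro H
    refine ((tfae_universallyInjective (f.fiberToSpecResidueField y)).out 0 1).mpr ?_
    intro K _ g₁ g₂ h12
    let Ω := AlgebraicClosure K
    let e : Spec (CommRingCat.of Ω) ⟶ Spec (CommRingCat.of K) :=
      Spec.map (CommRingCat.ofHom (algebraMap K Ω))
    have hs : Surjective e :=
      ⟨fun x => ⟨closedPoint Ω, Subsingleton.elim (α := PrimeSpectrum K) _ _⟩⟩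
    have hfl : Flat e := by
      rw [Flat.SpecMap_iff]
      change (algebraMap K Ω).Flat
      rw [RingHom.flat_algebraMap_iff]
      infer_instance
    have hepi : Epi e := Flat.epi_of_flat_of_surjective e
    have h12' : g₁ ≫ f.fiberToSpecResidueField y = g₂ ≫ f.fiberToSpecResidueField y := h12
    have h := H Ω (e ≫ g₁ ≫ f.fiberι y) (e ≫ g₂ ≫ f.fiberι y) (by
      simp only [Category.assoc, f.fiber_fac]
      rw [reassoc_of% h12']) (by
      simp only [Category.assoc, f.fiber_fac]
      simp only [Scheme.Hom.comp_apply]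
      exact Scheme.fromSpecResidueField_apply _ _)
    rw [cancel_epi, cancel_mono] at h
    exact h

/-- Radicial at the closed point for spectra of integral ring maps, as `UniqHom`. -/
theorem isRadicialAt_iff_uniqHom {A B : CommRingCat.{u}} [IsLocalRing A] (φ : A ⟶ B) :
    RadPt.IsRadicialAt (Spec.map φ) (closedPoint A) ↔ UniqHom φ.hom (maximalIdeal A) := by
  rw [isRadicialAt_iff_geom]
  have key : ∀ (Ω : Type u) [Field Ω] (a : B →+* Ω),
      (Spec.map (CommRingCat.ofHom a) ≫ Spec.map φ) (closedPoint Ω) = closedPoint A ↔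
        RingHom.ker (a.comp φ.hom) = maximalIdeal A := by
    intro Ω _ a
    rw [← Spec.map_comp]
    constructor
    · intro h
      have h1 := congrArg PrimeSpectrum.asIdeal h
      rw [← RingHom.comap_ker] at *
      have h2 : (maximalIdeal Ω) = ⊥ := IsLocalRing.maximalIdeal_eq_bot
      change (maximalIdeal Ω).comap (φ ≫ CommRingCat.ofHom a).hom = maximalIdeal A at h1
      rw [h2] at h1
      exact h1
    · intro h
      apply PrimeSpectrum.ext
      have h2 : (maximalIdeal Ω) = ⊥ := IsLocalRing.maximalIdeal_eq_bot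
      change (maximalIdeal Ω).comap (φ ≫ CommRingCat.ofHom a).hom = maximalIdeal A
      rw [h2]
      exact h
  constructor
  · intro H Ω _ _ a b hab hk
    have h := H Ω (Spec.map (CommRingCat.ofHom a)) (Spec.map (CommRingCat.ofHom b)) (by
      rw [← Spec.map_comp, ← Spec.map_comp]
      congr 1
      ext x
      exact congr($hab x)) ((key Ω a).mpr hk)
    have h' := Spec.map_injective h
    exact congrArg CommRingCat.Hom.hom h'
  · intro H Ω _ _ g₁ g₂ h12 hy
    obtain ⟨a, rfl⟩ := Spec.map_surjective g₁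
    obtain ⟨b, rfl⟩ := Spec.map_surjective g₂
    have h := H Ω a.hom b.hom (by
      rw [← Spec.map_comp, ← Spec.map_comp] at h12
      exact congrArg CommRingCat.Hom.hom (Spec.map_injective h12)) ((key Ω a.hom).mp hy)
    rw [show a = b from CommRingCat.hom_ext h]

section Generic

variable (A : CommRingCat.{u})

theorem specializes_iff_le {p q : Spec A} : p ⤳ q ↔ p.asIdeal ≤ q.asIdeal :=
  (PrimeSpectrum.le_iff_specializes p q).symm

/-- If the nilradical is prime it is the unique generic point. -/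
theorem genericPoint_of_isPrime (h : (nilradical A).IsPrime) :
    ∃ ξ : Spec A, ξ ∈ genericPoints (Spec A) ∧ ∀ x ∈ genericPoints (Spec A), x = ξ := by
  let ξ : Spec A := (⟨nilradical A, h⟩ : PrimeSpectrum A)
  have hle : ∀ x : Spec A, ξ ⤳ x := fun x =>
    (specializes_iff_le A).mpr (nilradical_le_prime (PrimeSpectrum.asIdeal x))
  refine ⟨ξ, ?_, ?_⟩
  · rw [mem_genericPoints_iff]
    intro y hy
    exact (hy.antisymm (hle y)).eq
  · intro x hx
    exact ((mem_genericPoints_iff.mp hx) _ (hle x)).symm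

theorem nilradical_eq_of_unique {ξ : Spec A} (h : ∀ x ∈ genericPoints (Spec A), x = ξ) :
    nilradical A = ξ.asIdeal := by
  refine le_antisymm (nilradical_le_prime (PrimeSpectrum.asIdeal ξ)) ?_
  rw [nilradical_eq_sInf]
  refine le_sInf fun J hJ => ?_
  let x : Spec A := (⟨J, hJ⟩ : PrimeSpectrum A)
  obtain ⟨g, hg, hgx⟩ := exists_genericPoints_specializes x
  rw [h g hg] at hgx
  exact (specializes_iff_le A).mp hgx

end Generic

theorem bir_of_isBirational {A B : CommRingCat.{u}} (φ : A ⟶ B)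
    (h : RadPt.IsBirational (Spec.map φ))
    (hdom : IsDomain (CAlg2.red A) ∨ IsDomain (CAlg2.red B)) : Bir φ.hom := by
  obtain ⟨hbij, htriv⟩ := h
  have key : ∃ (p : Spec A) (q : Spec B), p ∈ genericPoints (Spec A) ∧
      (∀ x ∈ genericPoints (Spec A), x = p) ∧ (∀ x ∈ genericPoints (Spec B), x = q) ∧
      Spec.map φ q = p := by
    rcases hdom with hdom | hdom
    · have hp : (nilradical A).IsPrime := (Ideal.Quotient.isDomain_iff_prime _).mp hdom
      obtain ⟨ξ, h1, h2⟩ := genericPoint_of_isPrime A hp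
      obtain ⟨q, hq, hqp⟩ := hbij.2.2 h1
      refine ⟨_, q, h1, h2, fun x hx => ?_, hqp⟩
      exact hbij.2.1 hx hq ((h2 _ (hbij.1 hx)).trans hqp.symm)
    · have hp : (nilradical B).IsPrime := (Ideal.Quotient.isDomain_iff_prime _).mp hdom
      obtain ⟨ξ, h1, h2⟩ := genericPoint_of_isPrime B hp
      refine ⟨_, _, hbij.1 h1, fun x hx => ?_, h2, rfl⟩
      obtain ⟨q, hq, hqx⟩ := hbij.2.2 hx
      rw [← hqx, h2 q hq]
  obtain ⟨p, q, hp, hp1, hq1, hqp⟩ := key
  have hA : nilradical A = p.asIdeal := nilradical_eq_of_unique A hp1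
  have hB : nilradical B = q.asIdeal := nilradical_eq_of_unique B hq1
  have hc : q.asIdeal.comap φ.hom = p.asIdeal := congrArg PrimeSpectrum.asIdeal hqp
  refine ⟨?_, ?_, ?_, ?_⟩
  · rw [Ideal.Quotient.isDomain_iff_prime, hA]; exact p.2
  · rw [Ideal.Quotient.isDomain_iff_prime, hB]; exact q.2
  · rw [hA, hB, hc]
  · intro b
    subst hqp
    have h1 := (htriv _ hp).2 q rfl
    have h2 := Groth.Agent.Grpsch.EtLoc.residueFieldMap_SpecMap φ q
    have h3 : Function.Surjective (Ideal.ResidueField.map (Spec.map φ q).asIdeal q.asIdeal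
        φ.hom rfl) := by
      intro z
      let e := (Scheme.Spec.residueFieldIso B q)
      let e' := (Scheme.Spec.residueFieldIso A (Spec.map φ q))
      obtain ⟨w, hw⟩ := h1.2 (e.inv.hom z)
      refine ⟨e'.hom.hom w, ?_⟩
      have h4 : e.hom.hom (((Spec.map φ).residueFieldMap q).hom w) =
          Ideal.ResidueField.map (Spec.map φ q).asIdeal q.asIdeal φ.hom rfl (e'.hom.hom w) :=
        congr($h2 w)
      rw [← h4, hw]
      exact congr($(e.inv_hom_id) z)
    obtain ⟨z, hz⟩ := h3 (algebraMap B q.asIdeal.ResidueField b)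
    obtain ⟨⟨r, s⟩, hrs⟩ := IsLocalization.surj (nonZeroDivisors (A ⧸ (Spec.map φ q).asIdeal)) z
    obtain ⟨r, rfl⟩ := Ideal.Quotient.mk_surjective r
    obtain ⟨s', hs'⟩ := Ideal.Quotient.mk_surjective (s : A ⧸ (Spec.map φ q).asIdeal)
    refine ⟨s', r, ?_, ?_⟩
    · rw [hA]
      intro hmem
      have h5 := nonZeroDivisors.ne_zero s.2
      rw [← hs'] at h5
      exact h5 (Ideal.Quotient.eq_zero_iff_mem.mpr hmem)
    · rw [hB, ← Ideal.algebraMap_residueField_eq_zero (I := q.asIdeal)]
      have h6 : z * algebraMap A (Spec.map φ q).asIdeal.ResidueField s' =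
          algebraMap A (Spec.map φ q).asIdeal.ResidueField r := by
        rw [← hs'] at hrs
        exact hrs
      have h7 := congrArg (Ideal.ResidueField.map (Spec.map φ q).asIdeal q.asIdeal φ.hom rfl) h6
      rw [map_mul, hz, Ideal.ResidueField.map_algebraMap, Ideal.ResidueField.map_algebraMap] at h7
      rw [map_sub, map_mul, mul_comm, h7, sub_self]

end K284.UnibSch
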